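import Cfsg.Agent.H237.FR.Rows
import Cfsg.Agent.H853.SR.Bridge

/-!
# TEAM SR part 2 (S4970), task FR-OM: inverters of determinant one in dimension `4k` (helper237)

From the decomposition theorem of helper853.
-/

set_option autoImplicit false

namespace Cfsg.Agent.H237.FR

open QuadraticMap Module
open Cfsg.Agent.LieClassical.OrthCore Cfsg.Agent.H160.QSpin Cfsg.Agent.H160.QDisc
open Cfsg.Agent.H853.SR

/-- in dimension odd or divisible by four: an involution of determinant one inverting `g` -/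
theorem exists_T {F : Type} [Field F] [Fintype F] [DecidableEq F] (h2 : (2 : F) ≠ 0) (hA : HypA.{0, 0} F)
    (hE : HypE.{0, 0} F) (hT : HypJT.{0, 0} F) (hU : HypJU.{0, 0} F) (V : Type) [AddCommGroup V] [Module F V]
    [Finite V] (Q : QuadraticForm F V) (hQ : Nondeg Q) (hn : Odd (finrank F V) ∨ 4 ∣ finrank F V)
    (g : V ≃ₗ[F] V) (hg : g ∈ O Q) : ∃ s, Cfsg.Agent.H721.SR.T Q g 1 s := by
  have hJ := jHyp.{0, 0} hT hU
  have hP := exists_piece.{0, 0} h2 hA hE
  let X : Tri.{0, 0} F := ⟨V, Q, g, hQ, hg⟩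
  rcases main h2 hJ hP X hn with h | ⟨c, j, L, -, h⟩
  · exact ⟨1, h⟩
  · exact ⟨_, h.t h2 hJ⟩

theorem detOne_of (hH : ∀ (F : Type) [Field F] [Fintype F] [DecidableEq F], (2 : F) ≠ 0 →
    HypA.{0, 0} F ∧ HypE.{0, 0} F ∧ HypJT.{0, 0} F ∧ HypJU.{0, 0} F) : DetOne := by
  classical
  intro F V _ _ _ _ _ _ Q h2 hQ h4 g hg
  have := Fintype.ofFinite F
  obtain ⟨hA, hE, hT, hU⟩ := hH F h2
  exact exists_T h2 hA hE hT hU V Q hQ (Or.inr h4) g hg

end Cfsg.Agent.H237.FR
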