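import Cfsg.Agent.H721.FR.Base
import Cfsg.Agent.H164.SR.OddRows

/-!
# TEAM SR part 2 (S4970), task FR-OM: orthogonal groups over fields of odd order (helper237)

* `IdxTwo` : the index two lemma (task FR-I2);
* `fr_of_SO` : from `FSGood False (SO Q)` to `FR (POmega F Q)`;
* `so_of_odd`, `so_of_four` : `SO(Q)` from `O(Q)`.
-/

set_option autoImplicit false
set_option linter.unusedSectionVars false

universe u

namespace Cfsg.Agent.H237.FR

open QuadraticMap Module
open Cfsg.Agent.LieClassical.OrthCore Cfsg.Agent.LieClassical.OrthFinite Cfsg.Agent.LieClassical.OrthForms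
open Cfsg.Agent.H160.QSpin Cfsg.Agent.H160.QDisc Cfsg.Agent.H160.QFinal Cfsg.Agent.H160.QSemi
open Cfsg.Agent.H721.SR Cfsg.Agent.H721.FR Cfsg.Agent.H955.FS

/-- the index two lemma -/
def IdxTwo : Prop := ∀ (G : Type u) [Group G] [Finite G] (N : Subgroup G), N.index = 2 → FSGood False G →
  (∀ g : N, IsConj g g⁻¹) → FSGood False N

theorem good_of_dvd (hI : IdxTwo.{u}) {G : Type u} [Group G] [Finite G] (N : Subgroup G) (hN : N.index ∣ 2)
    (hG : FSGood False G) (hr : ∀ g : N, IsConj g g⁻¹) : FSGood False N := by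
  rcases (Nat.dvd_prime Nat.prime_two).1 hN with h | h
  · rw [Subgroup.index_eq_one] at h
    subst h
    exact hG.of_mulEquiv Subgroup.topEquiv.symm
  · exact hI G N h hG hr

theorem fr_center_quot (hI : IdxTwo.{u}) {Ω G : Type u} [Group Ω] [Finite Ω] [Group G] [Finite G] (f : Ω →* G)
    (Z : Subgroup G) [Z.Normal] (hZ : ∀ x : Ω, f x ∈ Z ↔ x ∈ Subgroup.center Ω) (hi : f.range.index ∣ 2)
    (hG : FSGood False G) : FR (Ω ⧸ Subgroup.center Ω) := by
  have hK : FSGood False (G ⧸ Z) := hG.of_surjective (QuotientGroup.mk' Z) (QuotientGroup.mk'_surjective Z)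
  let φ : Ω →* G ⧸ Z := (QuotientGroup.mk' Z).comp f
  have hker : φ.ker = Subgroup.center Ω := by
    ext x
    rw [← hZ x, MonoidHom.mem_ker]
    exact QuotientGroup.eq_one_iff _
  have hidx : φ.range.index ∣ 2 := by
    refine dvd_trans ?_ hi
    rw [show φ.range = f.range.map (QuotientGroup.mk' Z) from MonoidHom.range_comp _ f]
    exact Subgroup.index_map_dvd _ (QuotientGroup.mk'_surjective Z)
  let e : Ω ⧸ Subgroup.center Ω ≃* φ.range :=
    (QuotientGroup.quotientMulEquivOfEq hker.symm).trans (QuotientGroup.quotientKerEquivRange φ)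
  refine FR.congr e.symm fun hr => good_of_dvd hI _ hidx hK hr

section

variable {F : Type} [Field F] {V : Type} [AddCommGroup V] [Module F V]

theorem fin_gl (V : Type) [AddCommGroup V] [Module F V] [Finite V] : Finite (V ≃ₗ[F] V) :=
  Finite.of_injective (fun g : V ≃ₗ[F] V => (g : V → V)) DFunLike.coe_injective

/-- the special orthogonal group -/
noncomputable def SO (Q : QuadraticForm F V) : Subgroup (O Q) := (LinearEquiv.det.comp (O Q).subtype).ker

theorem mem_SO {Q : QuadraticForm F V} {g : O Q} : g ∈ SO Q ↔ LinearEquiv.det (g : V ≃ₗ[F] V) = 1 := Iff.rfl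

/-- the scalars in the orthogonal group -/
def Sc (Q : QuadraticForm F V) : Subgroup (O Q) where
  carrier := {g | ∃ c : F, (c = 1 ∨ c = -1) ∧ ∀ x, (g : V ≃ₗ[F] V) x = c • x}
  mul_mem' := by
    rintro a b ⟨c, hc, h⟩ ⟨d, hd, h'⟩
    refine ⟨c * d, ?_, fun x => ?_⟩
    · rcases hc with rfl | rfl <;> rcases hd with rfl | rfl <;> simp
    · show (a : V ≃ₗ[F] V) ((b : V ≃ₗ[F] V) x) = _
      rw [h', h, smul_smul]
  one_mem' := ⟨1, Or.inl rfl, fun x => (one_smul F x).symm⟩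
  inv_mem' := by
    rintro a ⟨c, hc, h⟩
    refine ⟨c, hc, fun x => ?_⟩
    have hcc : c * c = 1 := by rcases hc with rfl | rfl <;> simp
    apply (a : V ≃ₗ[F] V).injective
    rw [h (c • x), smul_smul, hcc, one_smul]
    exact (a : V ≃ₗ[F] V).apply_symm_apply x

instance sc_normal (Q : QuadraticForm F V) : (Sc Q).Normal where
  conj_mem := by
    rintro a ⟨c, hc, h⟩ g
    refine ⟨c, hc, fun x => ?_⟩
    show (g : V ≃ₗ[F] V) ((a : V ≃ₗ[F] V) ((g : V ≃ₗ[F] V).symm x)) = _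
    rw [h, map_smul, LinearEquiv.apply_symm_apply]

end

section

variable {F : Type} [Field F] [Finite F] {ι : Type} [Fintype ι] [DecidableEq ι]

/-- the embedding of `Omega` in `SO` -/
noncomputable def toSO (h2 : (2 : F) ≠ 0) {Q : QuadraticForm F (ι → F)} (hQ : Nondeg Q) (hd : 5 ≤ Fintype.card ι) :
    Cfsg.Omega F ⇑Q →* SO Q where
  toFun x := ⟨⟨lin Q x, (el_lin h2 hQ hd x).1⟩, (el_lin h2 hQ hd x).2.1⟩
  map_one' := Subtype.ext (Subtype.ext (map_one (lin Q)))
  map_mul' x y := Subtype.ext (Subtype.ext (map_mul (lin Q) x y))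

theorem coe_toSO (h2 : (2 : F) ≠ 0) {Q : QuadraticForm F (ι → F)} (hQ : Nondeg Q) (hd : 5 ≤ Fintype.card ι)
    (x : Cfsg.Omega F ⇑Q) : (((toSO h2 hQ hd x : SO Q) : O Q) : (ι → F) ≃ₗ[F] (ι → F)) = lin Q x := rfl

theorem lin_apply (Q : QuadraticForm F (ι → F)) (x : Cfsg.Omega F ⇑Q) (v : ι → F) :
    lin Q x v = (((x : Cfsg.isometryGroup F ⇑Q) : Matrix.GeneralLinearGroup ι F) : Matrix ι ι F).mulVec v := rfl

theorem toSO_mem (h2 : (2 : F) ≠ 0) {Q : QuadraticForm F (ι → F)} (hQ : Nondeg Q) (hd : 5 ≤ Fintype.card ι)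
    (x : Cfsg.Omega F ⇑Q) :
    toSO h2 hQ hd x ∈ (Sc Q).comap (SO Q).subtype ↔ x ∈ Subgroup.center (Cfsg.Omega F ⇑Q) := by
  have hG := good_of_finite hQ (by rwa [finrank_fintype_fun_eq_card])
  obtain ⟨w, hw0, hw⟩ := hG.sing
  rw [Cfsg.Agent.LieClassical.OrthCenter.mem_center_omega_iff (nondeg_bilin hQ) (by omega) ⟨w, hw0, hw⟩]
  have key : ∀ c : F, (∀ v, lin Q x v = c • v) ↔
      (((x : Cfsg.isometryGroup F ⇑Q) : Matrix.GeneralLinearGroup ι F) : Matrix ι ι F) = c • (1 : Matrix ι ι F) := by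
    intro c
    constructor
    · intro h
      apply Matrix.mulVec_injective
      funext v
      rw [Matrix.smul_mulVec, Matrix.one_mulVec]
      exact h v
    · intro h v
      rw [lin_apply, h, Matrix.smul_mulVec, Matrix.one_mulVec]
  constructor
  · rintro ⟨c, hc, h⟩
    have h' := (key c).1 h
    rcases hc with rfl | rfl
    · left; rw [h', one_smul]
    · right; rw [h', neg_smul, one_smul]
  · rintro (h | h)
    · exact ⟨1, Or.inl rfl, (key 1).2 (by rw [h, one_smul])⟩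
    · exact ⟨-1, Or.inr rfl, (key (-1)).2 (by rw [h, neg_smul, one_smul])⟩

theorem index_toSO (h2 : (2 : F) ≠ 0) {Q : QuadraticForm F (ι → F)} (hQ : Nondeg Q) (hd : 5 ≤ Fintype.card ι) :
    (toSO h2 hQ hd).range.index ∣ 2 := by
  have hr : (toSO h2 hQ hd).range = ((spin Q).comp (SO Q).subtype).ker := by
    ext g
    constructor
    · rintro ⟨x, rfl⟩
      rw [MonoidHom.mem_ker]
      exact (el_lin h2 hQ hd x).2.2
    · intro hg
      obtain ⟨x, hx⟩ := exists_lin h2 hQ hd (g := ((g : O Q) : (ι → F) ≃ₗ[F] (ι → F))) ⟨g.1.2, g.2, hg⟩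
      exact ⟨x, Subtype.ext (Subtype.ext hx)⟩
  rw [hr, Subgroup.index_ker]
  have : Nat.card ℤˣ = 2 := by simp
  rw [← this]
  exact Subgroup.card_subgroup_dvd_card _

/-- **From `SO(Q)` to `PΩ(Q)`.** -/
theorem fr_of_SO (hI : IdxTwo.{0}) (h2 : (2 : F) ≠ 0) {Q : QuadraticForm F (ι → F)} (hQ : Nondeg Q)
    (hd : 5 ≤ Fintype.card ι) (hSO : FSGood False (SO Q)) : FR (Cfsg.POmega F ⇑Q) :=
  have := fin_gl (F := F) (ι → F)
  fr_center_quot hI (toSO h2 hQ hd) ((Sc Q).comap (SO Q).subtype) (toSO_mem h2 hQ hd) (index_toSO h2 hQ hd) hSO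

end

section

variable {F : Type} [Field F] [Finite F] {V : Type} [AddCommGroup V] [Module F V] [FiniteDimensional F V] [Finite V]

/-- the scalar `a` -/
noncomputable def sc (V : Type) [AddCommGroup V] [Module F V] : Fˣ →* (V ≃ₗ[F] V) := DistribMulAction.toModuleAut F V

theorem sc_apply (a : Fˣ) (x : V) : sc V a x = (a : F) • x := rfl

theorem sc_comm (a : Fˣ) (g : V ≃ₗ[F] V) : sc V a * g = g * sc V a := by
  ext x
  show sc V a (g x) = g (sc V a x)
  rw [sc_apply, sc_apply, map_smul]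

theorem det_sc (a : Fˣ) : LinearEquiv.det (sc V a) = a ^ finrank F V := by
  apply Units.ext
  rw [LinearEquiv.coe_det, Units.val_pow_eq_pow_val]
  have : ((sc V a : V ≃ₗ[F] V) : V →ₗ[F] V) = (a : F) • LinearMap.id := by
    ext x
    rfl
  rw [this, LinearMap.det_smul, LinearMap.det_id, mul_one]

theorem det_or {Q : QuadraticForm F V} (hQ : Nondeg Q) (g : O Q) :
    LinearEquiv.det (g : V ≃ₗ[F] V) = 1 ∨ LinearEquiv.det (g : V ≃ₗ[F] V) = -1 := by
  have h := det_sq hQ g.2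
  have h1 : ((LinearEquiv.det (g : V ≃ₗ[F] V) : Fˣ) : F) ^ 2 = 1 := by
    rw [← Units.val_pow_eq_pow_val, h, Units.val_one]
  rcases (show ((LinearEquiv.det (g : V ≃ₗ[F] V) : Fˣ) : F) = 1 ∨ ((LinearEquiv.det (g : V ≃ₗ[F] V) : Fˣ) : F) = -1 from by simpa using h1) with h2 | h2
  · exact Or.inl (Units.ext h2)
  · exact Or.inr (Units.ext h2)

/-- the surjection `O → SO` in odd dimension -/
noncomputable def twist {Q : QuadraticForm F V} (hQ : Nondeg Q) (hodd : Odd (finrank F V)) : O Q →* SO Q where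
  toFun g := ⟨⟨sc V (LinearEquiv.det (g : V ≃ₗ[F] V)) * (g : V ≃ₗ[F] V), by
      rw [mem_O]
      intro x
      show Q (((LinearEquiv.det (g : V ≃ₗ[F] V) : Fˣ) : F) • (g : V ≃ₗ[F] V) x) = _
      rw [QuadraticMap.map_smul, mem_O.1 g.2]
      rcases det_or hQ g with h | h <;> rw [h] <;> simp⟩, by
      rw [mem_SO]
      show LinearEquiv.det (sc V _ * (g : V ≃ₗ[F] V)) = 1
      rw [map_mul, det_sc]
      rcases det_or hQ g with h | h
      · rw [h, one_pow, one_mul]
      · rw [h, hodd.neg_one_pow]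
        simp⟩
  map_one' := by
    apply Subtype.ext
    apply Subtype.ext
    show sc V (LinearEquiv.det (1 : V ≃ₗ[F] V)) * (1 : V ≃ₗ[F] V) = 1
    rw [map_one, map_one, one_mul]
  map_mul' g h := by
    apply Subtype.ext
    apply Subtype.ext
    show sc V (LinearEquiv.det ((g : V ≃ₗ[F] V) * (h : V ≃ₗ[F] V))) * ((g : V ≃ₗ[F] V) * (h : V ≃ₗ[F] V)) =
      (sc V (LinearEquiv.det (g : V ≃ₗ[F] V)) * (g : V ≃ₗ[F] V)) *
        (sc V (LinearEquiv.det (h : V ≃ₗ[F] V)) * (h : V ≃ₗ[F] V))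
    rw [map_mul, map_mul, mul_assoc, mul_assoc]
    congr 1
    rw [← mul_assoc, ← mul_assoc, sc_comm]

/-- **odd dimension** -/
theorem so_of_odd {Q : QuadraticForm F V} (hQ : Nondeg Q) (hodd : Odd (finrank F V)) (hO : FSGood False (O Q)) :
    FSGood False (SO Q) := by
  have := fin_gl (F := F) V
  refine hO.of_surjective (twist hQ hodd) fun g => ⟨g, ?_⟩
  apply Subtype.ext
  apply Subtype.ext
  show sc V (LinearEquiv.det ((g : O Q) : V ≃ₗ[F] V)) * ((g : O Q) : V ≃ₗ[F] V) = _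
  rw [mem_SO.1 g.2, map_one, one_mul]

theorem index_SO {Q : QuadraticForm F V} (hQ : Nondeg Q) : (SO Q).index ∣ 2 := by
  have := fin_gl (F := F) V
  have := Fintype.ofFinite F
  rw [SO, Subgroup.index_ker]
  have hle : (LinearEquiv.det.comp (O Q).subtype).range ≤ Subgroup.zpowers (-1 : Fˣ) := by
    rintro _ ⟨g, rfl⟩
    rcases det_or hQ g with h | h
    · exact ⟨0, (zpow_zero _).trans h.symm⟩
    · exact ⟨1, (zpow_one _).trans h.symm⟩
  refine (Subgroup.card_dvd_of_le hle).trans ?_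
  rw [Nat.card_zpowers]
  exact orderOf_dvd_of_pow_eq_one (by simp)

/-- **dimension divisible by four** -/
theorem so_of_real (hI : IdxTwo.{0}) {Q : QuadraticForm F V} (hQ : Nondeg Q) (hO : FSGood False (O Q))
    (hT : ∀ g ∈ O Q, ∃ s, T Q g 1 s) : FSGood False (SO Q) := by
  have := fin_gl (F := F) V
  refine good_of_dvd hI _ (index_SO hQ) hO fun g => ?_
  obtain ⟨s, h, hO, -, hi, hdet, -⟩ := hT _ g.1.2
  rw [isConj_iff]
  exact ⟨⟨⟨h, hO⟩, hdet⟩, Subtype.ext (Subtype.ext hi)⟩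

end

end Cfsg.Agent.H237.FR
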