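import Cfsg.Agent.H237.FR.Om
import Cfsg.Agent.H105.Rl.Row

/-!
# TEAM SR part 2 (S4970), task FR-OM: the rows of the orthogonal groups (helper237)

* `OGood` : all indicators of `O(Q)` are one (`Q` nondegenerate, odd order);
* `DetOne` : in dimension `4k` every isometry is inverted by an involutory isometry of determinant one;
* `fr_odd`, `fr_plus`, `fr_minus` : odd order; `fr_oodd`, `fr_oplus`, `fr_ominus` : all orthogonal groups
  (the even rows are a hypothesis).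
-/

set_option autoImplicit false
set_option linter.unusedSectionVars false

universe u v

namespace Cfsg.Agent.H237.FR

open QuadraticMap Module
open Cfsg.Agent.LieClassical.OrthCore Cfsg.Agent.LieClassical.OrthFinite Cfsg.Agent.LieClassical.OrthForms
open Cfsg.Agent.H160.QSpin Cfsg.Agent.H160.QDisc Cfsg.Agent.H160.QFinal Cfsg.Agent.H160.QSemi
open Cfsg.Agent.H721.SR Cfsg.Agent.H721.FR Cfsg.Agent.H955.FS
open Cfsg

/-! ### change of universe -/

theorem fsi_equiv {G : Type u} {H : Type v} [Group G] [Group H] (e : G ≃* H) (χ : H → ℂ) :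
    fsi (χ ∘ e) = fsi χ := by
  unfold fsi
  rw [Nat.card_congr e.toEquiv]
  congr 1
  rw [← finsum_comp_equiv e.toEquiv]
  refine finsum_congr fun s => ?_
  simp [Function.comp_apply, map_mul]

theorem good_lift {G : Type u} {H : Type v} [Group G] [Group H] [Finite G] (e : G ≃* H) {w : Prop}
    (h : FSGood w G) : FSGood w H := by
  intro χ hχ
  have h1 := h (χ ∘ e) (Cfsg.Agent.Characters.Core.isIrr_comp e.toMonoidHom e.surjective hχ)
  rwa [fsi_equiv] at h1

theorem fr_lift {G : Type u} {H : Type v} [Group G] [Group H] [Finite G] (e : G ≃* H) (h : FR G) : FR H := by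
  intro hr
  refine good_lift e (h fun g => ?_)
  obtain ⟨x, hx⟩ := isConj_iff.1 (hr (e g))
  refine isConj_iff.2 ⟨e.symm x, e.injective ?_⟩
  simpa using hx

/-! ### odd order -/

/-- all indicators of the orthogonal groups are one -/
def OGood : Prop := ∀ (F V : Type) [Field F] [Finite F] [AddCommGroup V] [Module F V] [FiniteDimensional F V]
  (Q : QuadraticForm F V), (2 : F) ≠ 0 → Nondeg Q → FSGood False (O Q)

/-- inverters of determinant one -/
def DetOne : Prop := ∀ (F V : Type) [Field F] [Finite F] [AddCommGroup V] [Module F V] [FiniteDimensional F V]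
  [Finite V] (Q : QuadraticForm F V), (2 : F) ≠ 0 → Nondeg Q → 4 ∣ finrank F V → ∀ g ∈ O Q, ∃ s, T Q g 1 s

section

variable {F : Type} [Field F] [Fintype F]

theorem fr_odd (hI : IdxTwo.{0}) (hO : OGood) (hF : Odd (Fintype.card F)) {m : ℕ} (hm : 2 ≤ m) :
    FR (Cfsg.POmega F (Cfsg.quadFormOdd m F)) := by
  classical
  have h2 : (2 : F) ≠ 0 := Cfsg.Agent.H164.SRO.two_ne hF
  rw [← coe_oddForm m F]
  have hQ := nondeg_oddForm m F h2
  refine fr_of_SO hI h2 hQ (by simp; omega) (so_of_odd hQ ?_ (hO _ _ _ h2 hQ))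
  rw [Module.finrank_fintype_fun_eq_card]
  simp only [Fintype.card_sum, Fintype.card_fin, Fintype.card_unit]
  exact ⟨m, by ring⟩

theorem fr_plus (hI : IdxTwo.{0}) (hO : OGood) (hT : DetOne) (hF : Odd (Fintype.card F)) {n : ℕ} (hn : 2 ≤ n) :
    FR (Cfsg.POmega F (Cfsg.quadFormPlus (2 * n) F)) := by
  classical
  have h2 : (2 : F) ≠ 0 := Cfsg.Agent.H164.SRO.two_ne hF
  rw [← coe_plusForm (2 * n) F]
  have hQ := nondeg_plusForm (2 * n) F
  refine fr_of_SO hI h2 hQ (by simp; omega) (so_of_real hI hQ (hO _ _ _ h2 hQ) (hT _ _ _ h2 hQ ?_))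
  rw [Module.finrank_fintype_fun_eq_card]
  simp only [Fintype.card_sum, Fintype.card_fin]
  exact ⟨n, by ring⟩

theorem fr_minus (hI : IdxTwo.{0}) (hO : OGood) (hT : DetOne) (hF : Odd (Fintype.card F)) {n : ℕ} (hn : 2 ≤ n)
    {a b : F} (hab : ∀ z₁ z₂ : F, z₁ ^ 2 + a * z₁ * z₂ + b * z₂ ^ 2 = 0 → z₁ = 0 ∧ z₂ = 0) :
    FR (Cfsg.POmega F (Cfsg.quadFormMinus (2 * n - 1) F a b)) := by
  classical
  have h2 : (2 : F) ≠ 0 := Cfsg.Agent.H164.SRO.two_ne hF
  rw [← coe_minusForm (2 * n - 1) F]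
  have hQ := nondeg_minusForm (2 * n - 1) F a b hab
  refine fr_of_SO hI h2 hQ (by simp; omega) (so_of_real hI hQ (hO _ _ _ h2 hQ) (hT _ _ _ h2 hQ ?_))
  rw [Module.finrank_fintype_fun_eq_card]
  simp only [Fintype.card_sum, Fintype.card_fin]
  exact ⟨n, by omega⟩

end

/-! ### the families -/

/-- **`PΩ_{2m+1}(q)`, `q` odd, `m ≥ 3`.** -/
theorem fr_oodd {S : Type u} [Group S] (h : Cfsg.IsPOmegaOdd S) (hI : IdxTwo.{0}) (hO : OGood) : FR S := by
  obtain ⟨F, _, _, m, hm, hF, ⟨e⟩⟩ := h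
  exact fr_lift e.symm (fr_odd hI hO hF (by omega))

/-- **`PΩ⁺_{2m}(q)`, `m ≥ 4`.** -/
theorem fr_oplus {S : Type u} [Group S] (h : Cfsg.IsPOmegaPlus S) (hI : IdxTwo.{0}) (hO : OGood) (hT : DetOne)
    (heven : ∀ (F : Type) [Field F] [Fintype F] (n : ℕ), 2 ≤ n → Even (Fintype.card F) →
      FR (Cfsg.POmega F (Cfsg.quadFormPlus (2 * n) F))) : FR S := by
  obtain ⟨F, _, _, m, hm, ⟨e⟩⟩ := h
  refine fr_lift e.symm ?_
  rcases Nat.even_or_odd m with hme | hmo
  · obtain ⟨n, rfl⟩ := even_iff_two_dvd.1 hme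
    rcases Nat.even_or_odd (Fintype.card F) with hF | hF
    · exact heven F n (by omega) hF
    · exact fr_plus hI hO hT hF (by omega)
  · exact FR.of_nrel (Cfsg.Agent.H105.Rl.nrel_plus (by obtain ⟨c, rfl⟩ := hmo; omega) hmo)

/-- **`PΩ⁻_{2m}(q)`, `m ≥ 4`.** -/
theorem fr_ominus {S : Type u} [Group S] (h : Cfsg.IsPOmegaMinus S) (hI : IdxTwo.{0}) (hO : OGood) (hT : DetOne)
    (heven : ∀ (F : Type) [Field F] [Fintype F] (n : ℕ) (a b : F), 2 ≤ n → Even (Fintype.card F) →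
      (∀ z₁ z₂ : F, z₁ ^ 2 + a * z₁ * z₂ + b * z₂ ^ 2 = 0 → z₁ = 0 ∧ z₂ = 0) →
      FR (Cfsg.POmega F (Cfsg.quadFormMinus (2 * n - 1) F a b))) : FR S := by
  obtain ⟨F, _, _, m, a, b, hm, hab, ⟨e⟩⟩ := h
  refine fr_lift e.symm ?_
  rcases Nat.even_or_odd m with hme | hmo
  · obtain ⟨n, rfl⟩ := even_iff_two_dvd.1 hme
    rcases Nat.even_or_odd (Fintype.card F) with hF | hF
    · exact heven F n a b (by omega) hF hab
    · exact fr_minus hI hO hT hF (by omega) hab
  · exact FR.of_nrel (Cfsg.Agent.H105.Rl.nrel_minus (by obtain ⟨c, rfl⟩ := hmo; omega) hmo hab)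

end Cfsg.Agent.H237.FR
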